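import Groth.Agent.S8043
import Groth.Agent.S7520
import Groth.Agent.S0353
import Groth.Agent.Lib.PerfProd19.Basic
import Groth.Agent.Lib.AbRigid.SmoothGI
import Groth.Agent.Lib.AbRigid.Maximal
import Groth.Agent.Lib.AbRigid.GrpTop
import Groth.Agent.Lib.TorPts21.OrbitSemicont
import Groth.Agent.Lib.OrbitTop19.Closed
import Groth.Prelude.Def_AlgGrp
import Mathlib.RingTheory.Ideal.Height
import Mathlib.RingTheory.Ideal.KrullsHeightTheorem

/-!
# Closures of groups of rational points
-/

set_option autoImplicit false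
set_option linter.style.haveILetI false
set_option backward.isDefEq.respectTransparency false
set_option backward.isDefEq.respectTransparency.types false

universe u

open CategoryTheory CategoryTheory.Limits MonoidalCategory CartesianMonoidalCategory MonObj AlgebraicGeometry
open TopologicalSpace

noncomputable section

namespace Groth.Agent.DenseFG15

variable {k : Type u} [Field k] {G : Over (Spec (CommRingCat.of k))}

/-- The underlying point of a rational point. -/
abbrev pt0 (g : 𝟙_ (Over (Spec (CommRingCat.of k))) ⟶ G) : G.left := g.left (IsLocalRing.closedPoint k)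

theorem pt0_comp {H : Over (Spec (CommRingCat.of k))} (g : 𝟙_ (Over (Spec (CommRingCat.of k))) ⟶ H) (f : H ⟶ G) :
    pt0 (g ≫ f) = f.left (pt0 g) := rfl

variable [IsAlgClosed k]

/-- A closed set containing the images of the rational points contains the range. -/
theorem range_subset_of_points {T : Over (Spec (CommRingCat.of k))} [LocallyOfFiniteType T.hom] (f : T ⟶ G)
    {C : Set G.left} (hC : IsClosed C)
    (h : ∀ p : 𝟙_ (Over (Spec (CommRingCat.of k))) ⟶ T, pt0 (p ≫ f) ∈ C) : Set.range f.left ⊆ C := by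
  haveI : JacobsonSpace T.left := LocallyOfFiniteType.jacobsonSpace T.hom
  rintro _ ⟨t, rfl⟩
  by_contra ht
  obtain ⟨w, hw, hwc⟩ := nonempty_inter_closedPoints (Z := f.left ⁻¹' Cᶜ) ⟨t, ht⟩
    (hC.isOpen_compl.preimage f.left.continuous).isLocallyClosed
  obtain ⟨p, rfl⟩ := OrbitTop19.exists_point T w hwc
  exact hw (h p)

/-- A morphism from a reduced scheme into a closed subscheme, tested on rational points. -/
theorem exists_lift_of_points {T H : Over (Spec (CommRingCat.of k))} [LocallyOfFiniteType T.hom] [IsReduced T.left]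
    (i : H ⟶ G) [IsClosedImmersion i.left] (f : T ⟶ G)
    (h : ∀ p : 𝟙_ (Over (Spec (CommRingCat.of k))) ⟶ T, pt0 (p ≫ f) ∈ Set.range i.left) :
    ∃ l : T ⟶ H, l ≫ i = f := by
  obtain ⟨l, hl⟩ := RedSepLib.exists_lift_of_range_subset f.left i.left
    (range_subset_of_points f i.left.isClosedEmbedding.isClosed_range h)
  exact ⟨Over.homMk l (by rw [← Over.w i, reassoc_of% hl, Over.w f]), Over.OverMorphism.ext hl⟩

theorem exists_lift_pt {H : Over (Spec (CommRingCat.of k))}
    (i : H ⟶ G) [IsClosedImmersion i.left] {g : 𝟙_ (Over (Spec (CommRingCat.of k))) ⟶ G}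
    (hg : pt0 g ∈ Set.range i.left) : ∃ a, a ≫ i = g := by
  haveI : IsReduced (𝟙_ (Over (Spec (CommRingCat.of k)))).left := inferInstanceAs (IsReduced (Spec (CommRingCat.of k)))
  haveI : LocallyOfFiniteType (𝟙_ (Over (Spec (CommRingCat.of k)))).hom :=
    inferInstanceAs (LocallyOfFiniteType (𝟙 (Spec (CommRingCat.of k))))
  refine exists_lift_of_points i g fun p => ?_
  rw [Subsingleton.elim p (𝟙 _), Category.id_comp]
  exact hg

variable [GrpObj G] [LocallyOfFiniteType G.hom] [QuasiCompact G.hom] [CharZero k]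

/-- The points of a group of rational points. -/
def ptSet (Φ : Subgroup (𝟙_ (Over (Spec (CommRingCat.of k))) ⟶ G)) : Set G.left :=
  pt0 '' (Φ : Set _)

theorem ptSet_mono {Φ Ψ : Subgroup (𝟙_ (Over (Spec (CommRingCat.of k))) ⟶ G)} (h : Φ ≤ Ψ) :
    ptSet Φ ⊆ ptSet Ψ := Set.image_mono h

/-- The identity component of the closure of a group of rational points. -/
theorem exists_component (Φ : Subgroup (𝟙_ (Over (Spec (CommRingCat.of k))) ⟶ G)) :
    ∃ (H : Over (Spec (CommRingCat.of k))) (_ : GrpObj H) (i : H ⟶ G) (N : Over (Spec (CommRingCat.of k)))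
      (_ : GrpObj N) (j : N ⟶ H),
      IsMonHom i ∧ IsClosedImmersion i.left ∧ Set.range i.left = closure (ptSet Φ) ∧
      IsMonHom j ∧ IsClosedImmersion j.left ∧ Set.range j.left = connectedComponent (pt0 η[H]) ∧
      IrreducibleSpace N.left ∧ LocallyOfFiniteType H.hom ∧ LocallyOfFiniteType N.hom := by
  let I := Scheme.IdealSheafData.vanishingIdeal (Closeds.closure (ptSet Φ))
  haveI : IsReduced I.subscheme := RedSepLib.isReduced_vanishingIdeal_subscheme _
  let H : Over (Spec (CommRingCat.of k)) := Over.mk (I.subschemeι ≫ G.hom)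
  let i : H ⟶ G := Over.homMk I.subschemeι rfl
  haveI : IsReduced H.left := ‹IsReduced I.subscheme›
  haveI : IsClosedImmersion i.left := inferInstanceAs (IsClosedImmersion I.subschemeι)
  haveI : Mono i := Over.mono_of_mono_left i
  haveI : LocallyOfFiniteType H.hom := inferInstanceAs (LocallyOfFiniteType (i.left ≫ G.hom))
  haveI : QuasiCompact H.hom := inferInstanceAs (QuasiCompact (i.left ≫ G.hom))
  have hrange : Set.range i.left = closure (ptSet Φ) := by
    show Set.range I.subschemeι = _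
    rw [Scheme.IdealSheafData.range_subschemeι, Scheme.IdealSheafData.coe_support_vanishingIdeal]
    rfl
  haveI : IsReduced (H ⊗ H).left := PerfProd19.isReduced_tensorObj H H
  haveI : IsReduced (𝟙_ (Over (Spec (CommRingCat.of k)))).left :=
    inferInstanceAs (IsReduced (Spec (CommRingCat.of k)))
  haveI : LocallyOfFiniteType (𝟙_ (Over (Spec (CommRingCat.of k)))).hom :=
    inferInstanceAs (LocallyOfFiniteType (𝟙 (Spec (CommRingCat.of k))))
  haveI : LocallyOfFiniteType (H ⊗ H).hom :=
    inferInstanceAs (LocallyOfFiniteType (pullback.fst H.hom H.hom ≫ H.hom))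
  have hmem : ∀ p : 𝟙_ (Over (Spec (CommRingCat.of k))) ⟶ H, pt0 (p ≫ i) ∈ closure (ptSet Φ) := fun p =>
    hrange ▸ ⟨pt0 p, rfl⟩
  obtain ⟨e', he'⟩ := exists_lift_pt i (g := η[G]) (hrange ▸ subset_closure ⟨1, Φ.one_mem, rfl⟩)
  obtain ⟨m', hm'⟩ := exists_lift_of_points i ((i ⊗ₘ i) ≫ μ[G]) (fun p => by
    have h : p ≫ (i ⊗ₘ i) ≫ μ[G] = ((p ≫ fst H H) ≫ i) * ((p ≫ snd H H) ≫ i) := by
      rw [Hom.mul_def, ← Category.assoc]
      congr 1
      ext <;> simp
    rw [h, hrange]
    exact (Groth.Agent.S8043.result k G Φ _ _ (hmem _) (hmem _)).1)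
  obtain ⟨v', hv'⟩ := exists_lift_of_points i (i ≫ ι[G]) (fun p => by
    rw [← Category.assoc, ← Hom.inv_def, hrange]
    exact (Groth.Agent.S8043.result k G Φ _ _ (hmem p) (hmem p)).2)
  letI : GrpObj H := AbRigid.grpObjOfMono i e' he' m' hm' v' hv'
  haveI : IsMonHom i := ⟨he', hm'⟩
  obtain ⟨N, _, j, hj, hjc, hjf, hjr, hgi, hcpt⟩ := Groth.Agent.S7520.result k H
  haveI := hjc
  haveI := hgi
  haveI : IrreducibleSpace N.left := GeometricallyIrreducible.irreducibleSpace_of_subsingleton N.hom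
  haveI : LocallyOfFiniteType N.hom := by
    rw [← Over.w j]; infer_instance
  exact ⟨H, inferInstance, i, N, inferInstance, j, inferInstance, inferInstance, hrange, hj, hjc, hjr, inferInstance,
    inferInstance, inferInstance⟩

/-- The identity component of the closure, as a set. -/
def core (Φ : Subgroup (𝟙_ (Over (Spec (CommRingCat.of k))) ⟶ G)) : Set G.left :=
  connectedComponentIn (closure (ptSet Φ)) (pt0 η[G])

theorem one_mem_closure (Φ : Subgroup (𝟙_ (Over (Spec (CommRingCat.of k))) ⟶ G)) :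
    pt0 η[G] ∈ closure (ptSet Φ) := subset_closure ⟨1, Φ.one_mem, rfl⟩

/-- The core is the range of a closed irreducible subgroup. -/
theorem exists_core_subgroup (Φ : Subgroup (𝟙_ (Over (Spec (CommRingCat.of k))) ⟶ G)) :
    ∃ (N : Over (Spec (CommRingCat.of k))) (_ : GrpObj N) (i : N ⟶ G), IsMonHom i ∧ IsClosedImmersion i.left ∧
      Set.range i.left = core Φ ∧ IrreducibleSpace N.left ∧ LocallyOfFiniteType N.hom := by
  obtain ⟨H, _, i, N, _, j, hi, hic, hir, hj, hjc, hjr, hirr, -, hlft⟩ := exists_component Φ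
  haveI := hi; haveI := hic; haveI := hj; haveI := hjc
  refine ⟨N, inferInstance, j ≫ i, inferInstance, ?_, ?_, hirr, hlft⟩
  · rw [Over.comp_left]; infer_instance
  · have he : i.left (pt0 η[H]) = pt0 η[G] := by rw [← IsMonHom.one_hom i]; rfl
    rw [Over.comp_left]
    show Set.range (i.left ∘ j.left) = _
    rw [Set.range_comp, hjr, core, ← he, ← hir, ← Set.image_univ, ← connectedComponentIn_univ]
    have hemb := i.left.isClosedEmbedding.isEmbedding.isInducing
    refine Set.Subset.antisymm (i.left.continuous.continuousOn.image_connectedComponentIn_subset (Set.mem_univ _)) ?_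
    intro y hy
    obtain ⟨x, -, rfl⟩ := connectedComponentIn_subset _ _ hy
    refine ⟨x, ?_, rfl⟩
    rw [connectedComponentIn_univ]
    refine _root_.IsPreconnected.subset_connectedComponent (hemb.isPreconnected_image.1 ?_) ?_ (show x ∈ i.left ⁻¹' connectedComponentIn (i.left '' Set.univ) (i.left (pt0 η[H])) from hy)
    · rw [Set.image_preimage_eq_of_subset ((connectedComponentIn_subset _ _).trans (Set.image_subset_range _ _))]
      exact isPreconnected_connectedComponentIn
    · exact mem_connectedComponentIn (Set.mem_image_of_mem _ (Set.mem_univ _))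

theorem isIrreducible_core (Φ : Subgroup (𝟙_ (Over (Spec (CommRingCat.of k))) ⟶ G)) :
    IsIrreducible (core Φ) ∧ IsClosed (core Φ) := by
  obtain ⟨N, _, i, -, hic, hr, hirr, -⟩ := exists_core_subgroup Φ
  rw [← hr]
  refine ⟨?_, i.left.isClosedEmbedding.isClosed_range⟩
  rw [← Set.image_univ]
  exact (IrreducibleSpace.isIrreducible_univ N.left).image _ i.left.continuous.continuousOn

theorem core_mono {Φ Ψ : Subgroup (𝟙_ (Over (Spec (CommRingCat.of k))) ⟶ G)} (h : Φ ≤ Ψ) : core Φ ⊆ core Ψ :=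
  connectedComponentIn_mono _ (closure_mono (ptSet_mono h))

theorem subset_core {Φ : Subgroup (𝟙_ (Over (Spec (CommRingCat.of k))) ⟶ G)} {S : Set G.left}
    (hS : _root_.IsPreconnected S) (h1 : pt0 η[G] ∈ S) (hsub : S ⊆ closure (ptSet Φ)) : S ⊆ core Φ :=
  hS.subset_connectedComponentIn h1 hsub

/-- There is a finitely generated group whose core does not grow. -/
theorem exists_stable [IsAffine G.left] :
    ∃ Φ : Subgroup (𝟙_ (Over (Spec (CommRingCat.of k))) ⟶ G), Φ.FG ∧ ∀ Ψ, Ψ.FG → Φ ≤ Ψ → core Ψ = core Φ := by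
  haveI : IsLocallyNoetherian G.left := LocallyOfFiniteType.isLocallyNoetherian G.hom
  haveI : IsNoetherianRing Γ(G.left, ⊤) := IsLocallyNoetherian.component_noetherian ⟨⊤, isAffineOpen_top _⟩
  let gp : Subgroup (𝟙_ (Over (Spec (CommRingCat.of k))) ⟶ G) → PrimeSpectrum Γ(G.left, ⊤) :=
    fun Φ => G.left.isoSpec.hom (isIrreducible_core Φ).1.genericPoint
  let h : Subgroup (𝟙_ (Over (Spec (CommRingCat.of k))) ⟶ G) → ℕ∞ := fun Φ => (gp Φ).asIdeal.height
  obtain ⟨Φ, hΦ, hmin⟩ := (wellFounded_lt (α := ℕ∞)).has_min (h '' {Φ | Φ.FG}) ⟨_, ⊥, ⟨∅, by simp⟩, rfl⟩ |>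
    fun ⟨m, ⟨Φ, hΦ, hm⟩, hmin⟩ => (⟨Φ, hΦ, fun Ψ hΨ => hm ▸ hmin (h Ψ) ⟨Ψ, hΨ, rfl⟩⟩ :
      ∃ Φ : Subgroup (𝟙_ (Over (Spec (CommRingCat.of k))) ⟶ G), Φ.FG ∧ ∀ Ψ : Subgroup _, Ψ.FG → ¬ h Ψ < h Φ)
  refine ⟨Φ, hΦ, fun Ψ hΨ hle => ?_⟩
  obtain ⟨hi, hic⟩ := isIrreducible_core Φ
  obtain ⟨hi', hic'⟩ := isIrreducible_core Ψ
  have hmem : hi.genericPoint ∈ core Φ := by
    have h1 : hi.genericPoint ∈ closure (core Φ) := by
      rw [← hi.isGenericPoint_genericPoint_closure]; exact subset_closure rfl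
    rwa [hic.closure_eq] at h1
  have hsp : hi'.genericPoint ⤳ hi.genericPoint :=
    hi'.isGenericPoint_genericPoint_closure.specializes (subset_closure (core_mono hle hmem))
  have hle' : (gp Ψ).asIdeal ≤ (gp Φ).asIdeal :=
    (PrimeSpectrum.le_iff_specializes (gp Ψ) (gp Φ)).2 (hsp.map G.left.isoSpec.hom.continuous)
  rcases hle'.lt_or_eq with hlt | heq
  · exact absurd (Ideal.height_strict_mono_of_isPrime hlt) (hmin Ψ hΨ)
  · have hpt : hi'.genericPoint = hi.genericPoint :=
      G.left.isoSpec.hom.homeomorph.injective (PrimeSpectrum.ext heq)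
    rw [← hic'.closure_eq, ← hic.closure_eq, ← hi'.isGenericPoint_genericPoint_closure,
      ← hi.isGenericPoint_genericPoint_closure, hpt]

end Groth.Agent.DenseFG15
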