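import Mathlib.RingTheory.Spectrum.Prime.Chevalley
import Mathlib.RingTheory.Nullstellensatz
import Mathlib.RingTheory.Finiteness.Cardinality
import Mathlib.LinearAlgebra.Matrix.Charpoly.Eigs
import Mathlib.Analysis.Complex.Polynomial.Basic
import Mathlib.FieldTheory.IsAlgClosed.Basic
import Mathlib.FieldTheory.IsAlgClosed.Spectrum
import Mathlib.RingTheory.Jacobson.Ring
import Mathlib.RingTheory.FinitePresentation
import Mathlib.Topology.Constructible

/-!
# Connected families of matrices of finite order are constant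
-/

set_option autoImplicit false

universe u v

open Polynomial

noncomputable section

namespace Groth.Agent.DenseFG15

variable {k : Type u} [Field k] [CharZero k]

/-- An embedding of finitely many algebraic numbers into the complex numbers. -/
theorem exists_embedding (s : Finset k) (hs : ∀ x ∈ s, ∃ N, 0 < N ∧ x ^ N = 1) :
    ∃ (K : Subalgebra ℚ k) (φ : K →ₐ[ℚ] ℂ), (s : Set k) ⊆ K ∧ Function.Injective φ := by
  have hint : ∀ x ∈ (s : Set k), IsIntegral ℚ x := fun x hx => by
    obtain ⟨N, hN, h⟩ := hs x hx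
    exact IsIntegral.of_pow hN (h ▸ isIntegral_one)
  let K := IntermediateField.adjoin ℚ (s : Set k)
  haveI : FiniteDimensional ℚ K := IntermediateField.finiteDimensional_adjoin hint
  exact ⟨K.toSubalgebra, IsAlgClosed.lift, IntermediateField.subset_adjoin ℚ _,
    RingHom.injective (IsAlgClosed.lift (R := ℚ) (S := K) (M := ℂ)).toRingHom⟩

/-- The sum of `n` roots of unity has absolute value at most `n`, with equality to `n` only if all are `1`. -/
theorem sum_roots_bound (s : Multiset k) (hs : ∀ x ∈ s, ∃ N, 0 < N ∧ x ^ N = 1) :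
    (∀ m : ℕ, s.sum = (m : k) → m ≤ Multiset.card s) ∧
      (s.sum = (Multiset.card s : k) → ∀ x ∈ s, x = 1) := by
  classical
  obtain ⟨K, φ, hK, hφ⟩ := exists_embedding s.toFinset (fun x hx => hs x (Multiset.mem_toFinset.1 hx))
  obtain ⟨t, ht⟩ : ∃ t : Multiset K, t.map Subtype.val = s :=
    ⟨s.attach.map fun x => ⟨x.1, hK (Multiset.mem_toFinset.2 x.2)⟩,
      by rw [Multiset.map_map]; exact s.attach_map_val⟩
  have hcard : Multiset.card t = Multiset.card s := by rw [← ht, Multiset.card_map]
  have hsum : s.sum = ((t.sum : K) : k) := by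
    rw [← ht]; exact (map_multiset_sum K.val t).symm
  let z : Multiset ℂ := t.map φ
  have hz : ∀ w ∈ z, ‖w‖ = 1 := by
    intro w hw
    obtain ⟨x, hx, rfl⟩ := Multiset.mem_map.1 hw
    obtain ⟨N, hN, h⟩ := hs x.1 (ht ▸ Multiset.mem_map_of_mem _ hx)
    refine (pow_eq_one_iff_of_nonneg (norm_nonneg _) hN.ne').1 ?_
    rw [← norm_pow, ← map_pow, show x ^ N = 1 from Subtype.ext h, map_one, norm_one]
  have hzsum : ∀ m : ℕ, s.sum = (m : k) → z.sum = (m : ℂ) := by
    intro m hm
    have : t.sum = (m : K) := Subtype.ext (by rw [← hsum, hm]; simp)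
    rw [show z.sum = φ t.sum from (map_multiset_sum φ t).symm, this, map_natCast]
  have hzc : Multiset.card z = Multiset.card s := by rw [Multiset.card_map, hcard]
  have hre : ∀ (z : Multiset ℂ), (∀ w ∈ z, ‖w‖ = 1) → z.sum.re ≤ Multiset.card z ∧
      (z.sum.re = Multiset.card z → ∀ w ∈ z, w = 1) := by
    intro z
    induction z using Multiset.induction with
    | empty => intro _; simp
    | cons a z ih =>
      intro h
      obtain ⟨h1, h2⟩ := ih fun w hw => h w (Multiset.mem_cons_of_mem hw)
      have ha := h a (Multiset.mem_cons_self _ _)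
      have ha1 : a.re ≤ 1 := ha ▸ Complex.re_le_norm a
      simp only [Multiset.sum_cons, Complex.add_re, Multiset.card_cons, Nat.cast_add, Nat.cast_one]
      refine ⟨by linarith, fun he w hw => ?_⟩
      rcases Multiset.mem_cons.1 hw with rfl | hw
      · have hre : w.re = 1 := by linarith
        exact Complex.ext hre (Complex.abs_re_eq_norm.1 (by rw [hre, ha, abs_one]))
      · exact h2 (by linarith) w hw
  refine ⟨fun m hm => ?_, fun hm x hx => ?_⟩
  · have h := (hre z hz).1
    rw [hzsum m hm, hzc, Complex.natCast_re] at h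
    exact_mod_cast h
  · obtain ⟨y, hy, rfl⟩ := Multiset.mem_map.1 (ht ▸ hx)
    have h := (hre z hz).2 (by rw [hzsum _ hm, hzc, Complex.natCast_re]) (φ y) (Multiset.mem_map_of_mem _ hy)
    rw [show y = 1 from hφ (h.trans φ.map_one.symm)]
    rfl

/-- A constructible set or its complement contains an open neighbourhood of a generic point. -/
theorem exists_open_of_isConstructible {X : Type v} [TopologicalSpace X] {η : X} (hη : ∀ x, η ⤳ x) {s : Set X}
    (hs : Topology.IsConstructible s) : ∃ U, IsOpen U ∧ η ∈ U ∧ (U ⊆ s ∨ U ⊆ sᶜ) := by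
  induction hs using Topology.IsConstructible.empty_union_induction with
  | open_retrocompact s hs hr =>
    by_cases hmem : η ∈ s
    · exact ⟨s, hs, hmem, Or.inl le_rfl⟩
    · exact ⟨Set.univ, isOpen_univ, trivial, Or.inr fun x _ hx => hmem ((hη x).mem_open hs hx)⟩
  | union s hs t ht ihs iht =>
    obtain ⟨U, hU, hηU, hU' | hU'⟩ := ihs
    · exact ⟨U, hU, hηU, Or.inl (hU'.trans Set.subset_union_left)⟩
    · obtain ⟨V, hV, hηV, hV' | hV'⟩ := iht
      · exact ⟨V, hV, hηV, Or.inl (hV'.trans Set.subset_union_right)⟩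
      · exact ⟨U ∩ V, hU.inter hV, ⟨hηU, hηV⟩,
          Or.inr fun x hx h => h.elim (hU' hx.1) (hV' hx.2)⟩
  | compl s hs ih =>
    obtain ⟨U, hU, hηU, h | h⟩ := ih
    · exact ⟨U, hU, hηU, Or.inr (h.trans (compl_compl s).ge)⟩
    · exact ⟨U, hU, hηU, Or.inl h⟩

variable [IsAlgClosed k]

/-- The trace of a matrix of finite order. -/
theorem trace_finite_order {n : ℕ} (M : Matrix (Fin n) (Fin n) k) {N : ℕ} (hN : 0 < N) (hM : M ^ N = 1) :
    (∀ m : ℕ, M.trace = (m : k) → m ≤ n) ∧ (M.trace = (n : k) → M = 1) := by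
  classical
  rcases isEmpty_or_nonempty (Fin n) with hn | hn
  · refine ⟨fun m hm => ?_, fun _ => Subsingleton.elim _ _⟩
    have : (m : k) = 0 := hm.symm.trans (by simp [Matrix.trace])
    rw [Nat.cast_eq_zero.1 this]
    exact Nat.zero_le _
  have hsp : M.charpoly.Splits := IsAlgClosed.splits _
  have hr : ∀ x ∈ M.charpoly.roots, ∃ N, 0 < N ∧ x ^ N = 1 := by
    intro x hx
    refine ⟨N, hN, ?_⟩
    have h1 : x ∈ spectrum k M :=
      Matrix.mem_spectrum_iff_isRoot_charpoly.2 (Polynomial.isRoot_of_mem_roots hx)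
    have h2 := spectrum.pow_mem_pow M N h1
    rw [hM, spectrum.one_eq] at h2
    exact h2
  have hcard : Multiset.card M.charpoly.roots = n := by
    rw [← hsp.natDegree_eq_card_roots, Matrix.charpoly_natDegree_eq_dim, Fintype.card_fin]
  obtain ⟨hb, he⟩ := sum_roots_bound M.charpoly.roots hr
  rw [← Matrix.trace_eq_sum_roots_charpoly_of_splits hsp, hcard] at hb he
  refine ⟨hb, fun h => ?_⟩
  have hch : M.charpoly = (X - C 1) ^ n := by
    conv_lhs => rw [hsp.eq_prod_roots_of_monic M.charpoly_monic]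
    rw [Multiset.map_congr (g := fun _ => X - C (1 : k)) rfl (fun x hx => by rw [he h x hx]), Multiset.map_const',
      Multiset.prod_replicate, hcard]
  have h1 : (aeval M) ((X - C (1 : k)) ^ n) = 0 := by rw [← hch]; exact M.aeval_self_charpoly
  obtain ⟨S, hS⟩ : (X - C (1 : k)) ∣ (X ^ N - 1) := dvd_iff_isRoot.2 (by simp)
  have hS1 : S.eval 1 ≠ 0 := by
    have h' : derivative (X ^ N - 1 : k[X]) = derivative ((X - C 1) * S) := by rw [hS]
    have h'' := congrArg (eval 1) h'
    simp only [derivative_sub, derivative_X_pow, derivative_one, sub_zero, derivative_mul, derivative_X,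
      derivative_C, eval_add, eval_mul, eval_sub, eval_X, eval_C, sub_self, zero_mul, add_zero, one_mul, eval_one,
      eval_pow, one_pow, mul_one] at h''
    rw [← h'']
    exact_mod_cast hN.ne'
  obtain ⟨p, q, hpq⟩ : IsCoprime S ((X - C (1 : k)) ^ n) := by
    refine IsCoprime.pow_right (IsCoprime.symm ((Polynomial.irreducible_X_sub_C _).coprime_iff_not_dvd.2 ?_))
    rw [dvd_iff_isRoot]
    exact hS1
  have h2 : (aeval M) (X - C (1 : k)) = 0 := by
    have h3 : (aeval M) (X - C (1 : k)) = (aeval M) (p * ((X - C 1) * S) + (X - C 1) * q * (X - C 1) ^ n) := by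
      congr 1
      linear_combination -(X - C (1 : k)) * hpq
    rw [h3, ← hS, map_add, map_mul, map_mul _ _ ((X - C (1 : k)) ^ n), h1, mul_zero, add_zero, map_sub, map_pow,
      aeval_X, map_one, hM, sub_self, mul_zero]
  simpa [sub_eq_zero] using h2

/-- A family of matrices of finite order over a domain is constant. -/
theorem eq_one_of_forall_finite_order {A : Type v} [CommRing A] [IsDomain A] [Algebra k A] [Algebra.FiniteType k A]
    {n : ℕ} (M : Matrix (Fin n) (Fin n) A) (e : A →ₐ[k] k) (he : M.map e = 1)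
    (h : ∀ f : A →ₐ[k] k, ∃ N, 0 < N ∧ (M.map f) ^ N = 1) (f : A →ₐ[k] k) : M.map f = 1 := by
  classical
  have htr : ∀ g : A →ₐ[k] k, (M.map g).trace = g M.trace := fun g => by
    simp [Matrix.trace, map_sum]
  obtain ⟨N, hN, hfN⟩ := h f
  refine (trace_finite_order _ hN hfN).2 ?_
  rw [htr]
  let ψ : k[X] →ₐ[k] A := aeval M.trace
  by_cases hinj : Function.Injective ψ
  · exfalso
    have hfp : ψ.toRingHom.FinitePresentation := by
      letI := ψ.toRingHom.toAlgebra
      haveI : IsScalarTower k k[X] A := IsScalarTower.of_algHom ψ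
      haveI : Algebra.FiniteType k[X] A := Algebra.FiniteType.of_restrictScalars_finiteType k k[X] A
      exact Algebra.FinitePresentation.of_finiteType.1 inferInstance
    have hc := PrimeSpectrum.isConstructible_range_comap hfp
    let η : PrimeSpectrum k[X] := ⟨⊥, Ideal.isPrime_bot⟩
    have hη : η ∈ Set.range (PrimeSpectrum.comap ψ.toRingHom) := by
      refine ⟨⟨⊥, Ideal.isPrime_bot⟩, PrimeSpectrum.ext ?_⟩
      show Ideal.comap ψ.toRingHom ⊥ = ⊥
      exact (RingHom.injective_iff_ker_eq_bot _).1 hinj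
    obtain ⟨U, hUo, hηU, hU⟩ : ∃ U, IsOpen U ∧ η ∈ U ∧ U ⊆ Set.range (PrimeSpectrum.comap ψ.toRingHom) := by
      obtain ⟨U, hUo, hηU, hU | hU⟩ := exists_open_of_isConstructible
        (fun x => (PrimeSpectrum.le_iff_specializes η x).1 bot_le) hc
      · exact ⟨U, hUo, hηU, hU⟩
      · exact absurd hη (hU hηU)
    obtain ⟨_, ⟨g, rfl⟩, hηg, hgU⟩ :=
      PrimeSpectrum.isTopologicalBasis_basic_opens.exists_subset_of_mem_open hηU hUo
    have hg0 : g ≠ 0 := fun h0 => hηg (by rw [h0]; exact Ideal.zero_mem _)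
    obtain ⟨m, hm, hmg⟩ : ∃ m : ℕ, n < m ∧ g.eval (m : k) ≠ 0 := by
      by_contra hne
      push Not at hne
      have hinf : {x : k | g.IsRoot x}.Infinite := by
        refine Set.Infinite.mono ?_ ((Set.Ioi_infinite n).image (Nat.cast_injective (R := k)).injOn)
        rintro _ ⟨m, hm, rfl⟩
        exact hne m hm
      exact hg0 (Polynomial.eq_zero_of_infinite_isRoot g hinf)
    have hP : (Ideal.span {X - C (m : k)}).IsPrime := by
      rw [Ideal.span_singleton_prime (X_sub_C_ne_zero _)]
      exact prime_X_sub_C _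
    obtain ⟨Q, hQ⟩ := hU (hgU (show (⟨_, hP⟩ : PrimeSpectrum k[X]) ∈ PrimeSpectrum.basicOpen g from fun hmem => hmg (by
      rw [Ideal.mem_span_singleton, dvd_iff_isRoot] at hmem
      exact hmem)))
    obtain ⟨m', hm', hle⟩ := Q.asIdeal.exists_le_maximal Q.isPrime.ne_top
    letI := Ideal.Quotient.field m'
    haveI : Algebra.FiniteType k (A ⧸ m') :=
      Algebra.FiniteType.of_surjective (Ideal.Quotient.mkₐ k m') Ideal.Quotient.mk_surjective
    haveI : Module.Finite k (A ⧸ m') := finite_of_finite_type_of_isJacobsonRing k (A ⧸ m')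
    let q : A →ₐ[k] k := (AlgEquiv.ofBijective (Algebra.ofId k (A ⧸ m'))
      IsAlgClosed.algebraMap_bijective_of_isIntegral).symm.toAlgHom.comp (Ideal.Quotient.mkₐ k m')
    have hq : q M.trace = (m : k) := by
      have hmem : ψ (X - C (m : k)) ∈ m' := hle (show X - C (m : k) ∈ Ideal.comap ψ.toRingHom Q.asIdeal from by
        rw [show Ideal.comap ψ.toRingHom Q.asIdeal = _ from congrArg PrimeSpectrum.asIdeal hQ]
        exact Ideal.mem_span_singleton_self _)
      have h0 : q (ψ (X - C (m : k))) = 0 := by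
        simp only [q, AlgHom.comp_apply, Ideal.Quotient.mkₐ_eq_mk, Ideal.Quotient.eq_zero_iff_mem.2 hmem, map_zero]
      simpa [ψ, sub_eq_zero] using h0
    obtain ⟨N', hN', hqN⟩ := h q
    exact absurd ((trace_finite_order _ hN' hqN).1 m (by rw [htr, hq])) (not_le.2 hm)
  · rw [injective_iff_map_eq_zero] at hinj
    push Not at hinj
    obtain ⟨p, hp, hp0⟩ := hinj
    have hroot : ∃ c : k, M.trace = algebraMap k A c := by
      rw [(IsAlgClosed.splits p).eq_prod_roots, map_mul, aeval_C, map_multiset_prod,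
        mul_eq_zero] at hp
      rcases hp with hp | hp
      · rw [(map_eq_zero_iff _ (algebraMap k A).injective)] at hp
        exact absurd (Polynomial.leadingCoeff_eq_zero.1 hp) hp0
      · obtain ⟨a, ha, ha0⟩ := Multiset.mem_map.1 (Multiset.prod_eq_zero_iff.1 hp)
        obtain ⟨c, -, rfl⟩ := Multiset.mem_map.1 ha
        refine ⟨c, ?_⟩
        simpa [ψ, sub_eq_zero] using ha0
    obtain ⟨c, hc⟩ := hroot
    have hc' : c = (n : k) := by
      have := htr e
      rw [he, Matrix.trace_one, Fintype.card_fin, hc, e.commutes] at this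
      simpa using this.symm
    rw [hc, f.commutes, hc']
    simp

end Groth.Agent.DenseFG15
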