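import Groth.Agent.Lib.DenseFG15.Closure
import Groth.Agent.Lib.DenseFG15.Torsion
import Groth.Agent.Lib.GrassAct21.Embed
import Groth.Agent.Lib.InvRing21.Regular
import Groth.Agent.Lib.GrpAmple15.Connected
import Groth.Agent.S3278
import Mathlib.AlgebraicGeometry.Morphisms.FlatMono

/-!
# A connected linear algebraic group has a dense finitely generated subgroup
-/

set_option autoImplicit false
set_option linter.style.haveILetI false
set_option backward.isDefEq.respectTransparency false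
set_option backward.isDefEq.respectTransparency.types false

universe u

open CategoryTheory CategoryTheory.Limits MonoidalCategory CartesianMonoidalCategory MonObj AlgebraicGeometry
open TopologicalSpace

noncomputable section

namespace Groth.Agent.DenseFG15

variable {k : Type u} [Field k] [IsAlgClosed k] [CharZero k]

attribute [local instance] InvRing21.gamAlg

/-- Rational points as morphisms from the spectrum of the field. -/
def ptIso : VecGrp.pt k k ≅ 𝟙_ (Over (Spec (CommRingCat.of k))) :=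
  Over.isoMk (Iso.refl _) (by
    show 𝟙 _ ≫ 𝟙 _ = Spec.map (CommRingCat.ofHom (algebraMap k k))
    rw [Category.id_comp, Algebra.algebraMap_self]
    exact (Spec.map_id _).symm)

/-- A connected linear group whose rational points are torsion has trivial rational points. -/
theorem eq_one_of_torsion (Q : Over (Spec (CommRingCat.of k))) [GrpObj Q] [IsAffine Q.left]
    [LocallyOfFiniteType Q.hom] [IsIntegral Q.left]
    (h : ∀ g : 𝟙_ (Over (Spec (CommRingCat.of k))) ⟶ Q, ∃ N, 0 < N ∧ g ^ N = 1)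
    (g : 𝟙_ (Over (Spec (CommRingCat.of k))) ⟶ Q) : g = 1 := by
  obtain ⟨n, r, hr, hrc⟩ := GrassAct21.exists_embedding_GL Q
  haveI := hr; haveI := hrc
  haveI := InvRing21.finiteType_gam Q
  let Mt : DiagGL.Mats n (CoactBr.sp k (CoordGrp.GLn n k)) := DiagGL.matsGLn k n
  let P := VecGrp.pt k k
  let σ : Γ(P.left, ⊤) →+* k := ((Scheme.ΓSpecIso (CommRingCat.of k)).hom).hom
  have hσ : Function.Injective σ := (Scheme.ΓSpecIso (CommRingCat.of k)).commRingCatIsoToRingEquiv.injective
  let ρ : (P ⟶ Q) →* Matrix (Fin n) (Fin n) k :=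
    { toFun := fun p => (Mt.mat (p ≫ r)).map σ
      map_one' := by
        rw [show ((1 : P ⟶ Q) ≫ r) = 1 from MonObj.one_comp r, Mt.one, Matrix.map_one _ (map_zero _) (map_one _)]
      map_mul' := fun p q => by rw [MonObj.mul_comp, Mt.mul, Matrix.map_mul] }
  have hρ : ∀ p : P ⟶ Q, ρ p = (Mt.mat r).map (InvRing21.val p) := fun p => by
    show (Mt.mat (p ≫ r)).map σ = _
    rw [Mt.nat, Matrix.map_map]
    rfl
  have hinj : Function.Injective ρ := fun p q hpq => by
    haveI : Mono r := Over.mono_of_mono_left r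
    exact (cancel_mono r).1 (Mt.inj ((Matrix.map_injective hσ) hpq))
  have hfin : ∀ p : P ⟶ Q, ∃ N, 0 < N ∧ p ^ N = 1 := fun p => by
    obtain ⟨N, hN, hp⟩ := h (ptIso.inv ≫ p)
    refine ⟨N, hN, ?_⟩
    calc p ^ N = (ptIso.hom ≫ ptIso.inv ≫ p) ^ N := by rw [Iso.hom_inv_id_assoc]
      _ = ptIso.hom ≫ (ptIso.inv ≫ p) ^ N := (MonObj.comp_pow _ _ _).symm
      _ = 1 := by rw [hp, MonObj.comp_one]
  have hf : ∀ f : Γ(Q.left, ⊤) →ₐ[k] k, ∃ p : P ⟶ Q, ρ p = (Mt.mat r).map f := fun f =>
    ⟨VecGrp.ptMap f ≫ InvRing21.uPt Q, by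
      rw [hρ, InvRing21.val_ptMap, InvRing21.val_uPt, AlgHom.comp_id]⟩
  have hkey : ρ (ptIso.hom ≫ g) = 1 := by
    rw [hρ]
    refine eq_one_of_forall_finite_order (Mt.mat r) (InvRing21.val (1 : P ⟶ Q)) ?_ (fun f => ?_) _
    · rw [← hρ, map_one]
    · obtain ⟨p, hp⟩ := hf f
      obtain ⟨N, hN, hpN⟩ := hfin p
      exact ⟨N, hN, by rw [← hp, ← map_pow, hpN, map_one]⟩
  have h1 : ptIso.hom ≫ g = 1 := hinj (hkey.trans (map_one ρ).symm)
  calc g = ptIso.inv ≫ ptIso.hom ≫ g := (Iso.inv_hom_id_assoc _ _).symm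
    _ = 1 := by rw [h1, MonObj.comp_one]

variable (G : Over (Spec (CommRingCat.of k))) [GrpObj G] [IsAffine G.left] [LocallyOfFiniteType G.hom]

theorem pt0_lt (g p : 𝟙_ (Over (Spec (CommRingCat.of k))) ⟶ G) :
    (GrpAmple15.lt g).left (pt0 p) = pt0 (g * p) := by
  rw [← pt0_comp, GrpAmple15.comp_lt, Subsingleton.elim (toUnit (𝟙_ (Over (Spec (CommRingCat.of k))))) (𝟙 _),
    Category.id_comp]

/-- A connected linear group has a dense finitely generated subgroup. -/
theorem exists_dense_connected [IrreducibleSpace G.left] :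
    ∃ Φ : Subgroup (𝟙_ (Over (Spec (CommRingCat.of k))) ⟶ G), Φ.FG ∧ Dense (ptSet Φ) := by
  haveI := Groth.Agent.S0353.result k G
  haveI : QuasiCompact G.hom := inferInstance
  obtain ⟨Φ, hΦ, hst⟩ := exists_stable (G := G)
  obtain ⟨N, _, i, hi, hic, hir, hirr, hNlft⟩ := exists_core_subgroup Φ
  haveI := hi; haveI := hic; haveI := hirr; haveI := hNlft
  have hext : ∀ g, (Φ ⊔ Subgroup.closure {g}).FG ∧ Φ ≤ Φ ⊔ Subgroup.closure {g} ∧
      g ∈ Φ ⊔ Subgroup.closure {g} := fun g =>
    ⟨hΦ.sup ⟨{g}, by simp⟩, le_sup_left, Subgroup.mem_sup_right (Subgroup.subset_closure rfl)⟩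
  have hN : Smooth N.hom := Groth.Agent.S0353.result k N
  haveI : IsReduced N.left := AbRigid.isReduced_of_smooth_over_field N.hom
  haveI : IsReduced G.left := AbRigid.isReduced_of_smooth_over_field G.hom
  haveI : IsReduced (G ⊗ N).left := PerfProd19.isReduced_tensorObj G N
  haveI : LocallyOfFiniteType (G ⊗ N).hom :=
    inferInstanceAs (LocallyOfFiniteType (pullback.fst G.hom N.hom ≫ G.hom))
  have hclS : ∀ (Ψ : Subgroup (𝟙_ (Over (Spec (CommRingCat.of k))) ⟶ G)) g h,
      pt0 g ∈ closure (ptSet Ψ) → pt0 h ∈ closure (ptSet Ψ) →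
        pt0 (g * h) ∈ closure (ptSet Ψ) ∧ pt0 g⁻¹ ∈ closure (ptSet Ψ) :=
    fun Ψ g h hg hh => Groth.Agent.S8043.result k G Ψ g h hg hh
  have hconj : ∀ g, ∀ n : 𝟙_ (Over (Spec (CommRingCat.of k))) ⟶ N, pt0 (g * (n ≫ i) * g⁻¹) ∈ Set.range i.left := by
    intro g n
    obtain ⟨hfg, hle, hg⟩ := hext g
    let c : N ⟶ G := (toUnit N ≫ g) * i * (toUnit N ≫ g⁻¹)
    have hc : ∀ m : 𝟙_ (Over (Spec (CommRingCat.of k))) ⟶ N, m ≫ c = g * (m ≫ i) * g⁻¹ := fun m => by
      simp only [c, MonObj.comp_mul]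
      rw [← Category.assoc, ← Category.assoc, Subsingleton.elim (m ≫ toUnit N) (𝟙 _), Category.id_comp,
        Category.id_comp]
    have hsub : Set.range c.left ⊆ closure (ptSet (Φ ⊔ Subgroup.closure {g})) := by
      refine range_subset_of_points c isClosed_closure fun m => ?_
      rw [hc]
      have hm : pt0 (m ≫ i) ∈ closure (ptSet (Φ ⊔ Subgroup.closure {g})) :=
        closure_mono (ptSet_mono hle) (connectedComponentIn_subset _ _ (hir ▸ ⟨pt0 m, rfl⟩ : pt0 (m ≫ i) ∈ core Φ))
      have hg' : pt0 g ∈ closure (ptSet (Φ ⊔ Subgroup.closure {g})) := subset_closure ⟨g, hg, rfl⟩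
      exact (hclS _ _ _ (hclS _ _ _ hg' hm).1 (hclS _ _ _ hg' hg').2).1
    have h1 : pt0 η[G] ∈ Set.range c.left := ⟨pt0 η[N], by
      rw [← pt0_comp, hc, IsMonHom.one_hom, MonObj.one_eq_one, _root_.mul_one, mul_inv_cancel]⟩
    have hpre : _root_.IsPreconnected (Set.range c.left) := _root_.isPreconnected_range c.left.continuous
    have h2 := (subset_core hpre h1 hsub).trans (hst _ hfg hle).le
    rw [hir]
    exact h2 ⟨pt0 n, by rw [← pt0_comp, hc]⟩
  obtain ⟨n₀, hn₀⟩ := exists_lift_of_points i ((fst G N) * (snd G N ≫ i) * (fst G N)⁻¹) (fun p => by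
    rw [MonObj.comp_mul, MonObj.comp_mul, GrpObj.comp_inv, ← Category.assoc]
    exact hconj _ _)
  have hnorm : AlgGrp.IsNormalHom i := fun T g n => ⟨lift g n ≫ n₀, by
    rw [Category.assoc, hn₀, MonObj.comp_mul, MonObj.comp_mul, GrpObj.comp_inv, ← Category.assoc, lift_fst, lift_snd]⟩
  obtain ⟨Q, _, q, hq, hQa, hQl, hqf, hqs, hker⟩ := Groth.Agent.S3278.result k G N i hnorm
  haveI := hq; haveI := hQa; haveI := hQl; haveI := hqs
  haveI := Groth.Agent.S0353.result k Q
  haveI : IsReduced Q.left := AbRigid.isReduced_of_smooth_over_field Q.hom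
  haveI : IrreducibleSpace Q.left :=
    { toPreirreducibleSpace := q.left.surjective.preirreducibleSpace q.left.continuous
      toNonempty := ⟨pt0 η[Q]⟩ }
  haveI : IsIntegral Q.left := isIntegral_of_irreducibleSpace_of_isReduced _
  have hkq : ∀ g, pt0 g ∈ Set.range i.left → g ≫ q = 1 := fun g hg => by
    obtain ⟨a, rfl⟩ := exists_lift_pt i hg
    rw [Category.assoc, (hker : IsPullback i (toUnit N) q η[Q]).w, ← Category.assoc,
      Subsingleton.elim (a ≫ toUnit N) (toUnit _), ← Hom.one_def]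
  -- the quotient has torsion rational points
  have htor : ∀ y : 𝟙_ (Over (Spec (CommRingCat.of k))) ⟶ Q, ∃ M, 0 < M ∧ y ^ M = 1 := by
    intro y
    haveI : JacobsonSpace G.left := LocallyOfFiniteType.jacobsonSpace G.hom
    haveI : JacobsonSpace Q.left := LocallyOfFiniteType.jacobsonSpace Q.hom
    have hyc : IsClosed ({pt0 y} : Set Q.left) := by
      haveI : IsClosedImmersion y.left := by
        haveI : IsSeparated Q.hom := AbRigid.isSeparated_of_grpObj Q
        haveI : IsClosedImmersion (y.left ≫ Q.hom) := by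
          rw [Over.w y]; exact inferInstanceAs (IsClosedImmersion (𝟙 (Spec (CommRingCat.of k))))
        exact IsClosedImmersion.of_comp y.left Q.hom
      have := y.left.isClosedEmbedding.isClosedMap {IsLocalRing.closedPoint k}
        (IsLocalRing.isClosed_singleton_closedPoint k)
      rwa [Set.image_singleton] at this
    obtain ⟨z, hz, hzc⟩ := nonempty_inter_closedPoints (Z := q.left ⁻¹' {pt0 y})
      (Set.singleton_nonempty _ |>.preimage q.left.surjective) (hyc.preimage q.left.continuous).isLocallyClosed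
    obtain ⟨g, hg⟩ := OrbitTop19.exists_point G z hzc
    have hgy : g ≫ q = y := TorPts21.point_ext (by rw [← hg] at hz; exact hz)
    obtain ⟨hfg, hle, hgm⟩ := hext g
    let Ψ := Φ ⊔ Subgroup.closure {g}
    obtain ⟨H, _, i', N', _, j', -, hi'c, hi'r, -, -, -, -, hHlft, -⟩ := exists_component Ψ
    haveI := hi'c; haveI := hHlft
    haveI : QuasiCompact H.hom := by rw [← Over.w i']; infer_instance
    haveI : IsLocallyNoetherian H.left := LocallyOfFiniteType.isLocallyNoetherian H.hom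
    haveI : CompactSpace H.left := QuasiCompact.compactSpace_of_compactSpace H.hom
    haveI : IsNoetherian H.left := {}
    have hpow : ∀ m : ℕ, ∃ x : H.left, i'.left x = pt0 (g ^ m) := fun m =>
      hi'r.ge (subset_closure ⟨g ^ m, pow_mem hgm m, rfl⟩)
    choose x hx using hpow
    haveI : Finite (irreducibleComponents H.left) :=
      (TopologicalSpace.NoetherianSpace.finite_irreducibleComponents).to_subtype
    obtain ⟨a, b, hab, hC⟩ := Finite.exists_ne_map_eq_of_infinite
      (fun m => (⟨irreducibleComponent (x m), irreducibleComponent_mem_irreducibleComponents _⟩ :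
        irreducibleComponents H.left))
    simp only [Subtype.mk.injEq] at hC
    obtain ⟨a, b, hlt, hC⟩ : ∃ a b, a < b ∧ irreducibleComponent (x a) = irreducibleComponent (x b) := by
      rcases hab.lt_or_gt with h | h
      · exact ⟨a, b, h, hC⟩
      · exact ⟨b, a, h, hC.symm⟩
    let S := (GrpAmple15.lt (g ^ a)⁻¹).left '' (i'.left '' irreducibleComponent (x a))
    have hS : _root_.IsPreconnected S :=
      ((isIrreducible_irreducibleComponent.image _ i'.left.continuous.continuousOn).image _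
        (GrpAmple15.lt (g ^ a)⁻¹).left.continuous.continuousOn).isConnected.isPreconnected
    have h1 : pt0 η[G] ∈ S := ⟨_, ⟨x a, mem_irreducibleComponent, rfl⟩, by
      rw [hx, pt0_lt, inv_mul_cancel, MonObj.one_eq_one]⟩
    have hsub : S ⊆ closure (ptSet Ψ) := by
      rintro _ ⟨_, ⟨w, -, rfl⟩, rfl⟩
      have hcl : Set.range (i' ≫ GrpAmple15.lt (g ^ a)⁻¹).left ⊆ closure (ptSet Ψ) :=
        range_subset_of_points _ isClosed_closure fun p => by
          rw [← Category.assoc, pt0_comp, pt0_lt]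
          exact (hclS _ _ _ (subset_closure ⟨(g ^ a)⁻¹, inv_mem (pow_mem hgm a), rfl⟩) (hi'r ▸ ⟨pt0 p, rfl⟩)).1
      exact hcl ⟨w, rfl⟩
    have h2 : pt0 ((g ^ a)⁻¹ * g ^ b) ∈ Set.range i.left := by
      rw [hir]
      refine (subset_core hS h1 hsub).trans (hst _ hfg hle).le ⟨_, ⟨x b, hC ▸ mem_irreducibleComponent, rfl⟩, ?_⟩
      rw [hx, pt0_lt]
    refine ⟨b - a, by omega, ?_⟩
    have h3 := hkq _ h2
    rw [show (g ^ a)⁻¹ * g ^ b = g ^ (b - a) from by
      rw [inv_mul_eq_iff_eq_mul, ← pow_add, Nat.add_sub_cancel' hlt.le]] at h3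
    rw [← hgy]
    rw [MonObj.pow_comp] at h3
    exact h3
  refine ⟨Φ, hΦ, dense_iff_closure_eq.2 (Set.eq_univ_of_forall fun z => ?_)⟩
  have hsub : Set.range (𝟙 G : G ⟶ G).left ⊆ closure (ptSet Φ) := range_subset_of_points _ isClosed_closure fun p => by
    rw [Category.comp_id]
    have h1 : p ≫ q = 1 := eq_one_of_torsion Q htor _
    obtain ⟨a, ha, -⟩ := (hker : IsPullback i (toUnit N) q η[Q]).exists_lift p (toUnit _) (by
      rw [h1, Hom.one_def])
    rw [← ha]
    exact connectedComponentIn_subset _ _ (hir ▸ ⟨pt0 a, rfl⟩ : pt0 (a ≫ i) ∈ core Φ)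
  exact hsub ⟨z, rfl⟩

/-- A linear algebraic group in characteristic zero has a dense finitely generated subgroup. -/
theorem exists_dense : ∃ Φ : Subgroup (𝟙_ (Over (Spec (CommRingCat.of k))) ⟶ G), Φ.FG ∧ Dense (ptSet Φ) := by
  classical
  haveI := Groth.Agent.S0353.result k G
  haveI : QuasiCompact G.hom := inferInstance
  haveI : IsLocallyNoetherian G.left := LocallyOfFiniteType.isLocallyNoetherian G.hom
  haveI : CompactSpace G.left := QuasiCompact.compactSpace_of_compactSpace G.hom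
  obtain ⟨G₀, _, j, hj, hjc, hjf, hjr, hgi, -⟩ := Groth.Agent.S7520.result k G
  haveI := hj; haveI := hjc; haveI := hjf; haveI := hgi
  haveI : IsOpenImmersion j.left := IsOpenImmersion.of_flat_of_mono j.left
  haveI : IrreducibleSpace G₀.left := GeometricallyIrreducible.irreducibleSpace_of_subsingleton G₀.hom
  haveI : IsAffine G₀.left := isAffine_of_isAffineHom j.left
  haveI : LocallyOfFiniteType G₀.hom := by rw [← Over.w j]; infer_instance
  obtain ⟨Φ₀, hΦ₀, hd⟩ := exists_dense_connected G₀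
  let f : (𝟙_ (Over (Spec (CommRingCat.of k))) ⟶ G₀) →* (𝟙_ (Over (Spec (CommRingCat.of k))) ⟶ G) :=
    { toFun := fun p => p ≫ j
      map_one' := MonObj.one_comp j
      map_mul' := fun p q => MonObj.mul_comp p q j }
  haveI : JacobsonSpace G.left := LocallyOfFiniteType.jacobsonSpace G.hom
  have hcov : ∀ z : G.left, ∃ g, z ∈ Set.range (j.left ≫ (GrpAmple15.lt g).left) := by
    intro z
    obtain ⟨w, hw, hwc⟩ := nonempty_inter_closedPoints (Z := closure ({z} : Set G.left)) ⟨z, subset_closure rfl⟩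
      isClosed_closure.isLocallyClosed
    obtain ⟨g, rfl⟩ := OrbitTop19.exists_point G w hwc
    refine ⟨g, ?_⟩
    haveI := GrpAmple15.isIso_lt_left g
    refine (specializes_iff_mem_closure.2 hw).mem_open (j.left ≫ (GrpAmple15.lt g).left).isOpenEmbedding.isOpen_range
      ⟨pt0 η[G₀], ?_⟩
    rw [Scheme.Hom.comp_apply, ← pt0_comp η[G₀] j, IsMonHom.one_hom, pt0_lt, MonObj.one_eq_one, _root_.mul_one]
  obtain ⟨t, ht⟩ := isCompact_univ.elim_finite_subcover
    (fun g => Set.range (j.left ≫ (GrpAmple15.lt g).left))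
    (fun g => by
      haveI := GrpAmple15.isIso_lt_left g
      exact (j.left ≫ (GrpAmple15.lt g).left).isOpenEmbedding.isOpen_range)
    (fun z _ => Set.mem_iUnion.2 (hcov z))
  let Φ := Φ₀.map f ⊔ Subgroup.closure (t : Set _)
  refine ⟨Φ, Subgroup.FG.sup (by
    obtain ⟨s, hs⟩ := hΦ₀
    exact ⟨s.image f, by rw [Finset.coe_image, ← MonoidHom.map_closure, hs]⟩) ⟨t, rfl⟩, dense_iff_closure_eq.2 (Set.eq_univ_of_forall fun z => ?_)⟩
  obtain ⟨g, hg, hz⟩ := Set.mem_iUnion₂.1 (ht (Set.mem_univ z))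
  obtain ⟨w, rfl⟩ := hz
  let φ := (j.left ≫ (GrpAmple15.lt g).left)
  have h1 : φ w ∈ closure (φ '' ptSet Φ₀) :=
    image_closure_subset_closure_image φ.continuous ⟨w, hd w, rfl⟩
  refine closure_mono ?_ h1
  rintro _ ⟨_, ⟨p, hp, rfl⟩, rfl⟩
  refine ⟨g * f p, mul_mem (Subgroup.mem_sup_right (Subgroup.subset_closure hg))
    (Subgroup.mem_sup_left (Subgroup.mem_map_of_mem f hp)), ?_⟩
  rw [← pt0_lt]
  rfl

end Groth.Agent.DenseFG15
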